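import Groth.Agent.VBTwo.Basic
import Groth.Agent.W7Slope.Twist
import Groth.Agent.CurveOmega.Closed

/-!
Nilpotent twisted endomorphisms and line subbundles.
-/

set_option autoImplicit false
set_option backward.isDefEq.respectTransparency false
set_option backward.isDefEq.respectTransparency.types false
set_option linter.style.haveILetI false

universe u

open CategoryTheory CategoryTheory.Limits AlgebraicGeometry
open Groth.Agent.CohFinite Groth.Agent.CurveRR Groth.Agent.W7Slope

noncomputable section

namespace Groth.Agent.VeryStable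

variable {k : Type u} [Field k] {X : Scheme.{u}} [X.Over (Spec (CommRingCat.of k))]
  [IsProper (X ↘ Spec (CommRingCat.of k))] [IsIntegral X]

theorem nilp_comp {E L K : X.Modules} (s : L ⟶ E) (t : E ⟶ CohB1.tensorMod L K) (h : s ≫ t = 0) :
    (t ≫ tmap s K) ≫ tmap (t ≫ tmap s K) K = 0 := by
  rw [Category.assoc, ← tmap_comp, ← Category.assoc s t, h, zero_comp, tmap_zero, comp_zero]

variable (k) in
include k in
theorem exists_line_of_nilp (hX : RegCurve X) {E K : X.Modules} (hK : PicF.IsInvertible K)
    (hE : FlatMod.IsFinLocFreeOfRank 2 E) (α : E ⟶ CohB1.tensorMod E K) (hα : α ≫ tmap α K = 0) (hα0 : α ≠ 0) :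
    ∃ (L : X.Modules) (j : L ⟶ E), PicF.IsInvertible L ∧ Mono j ∧ PicF.IsInvertible (cokernel j) ∧
      ∃ β : cokernel j ⟶ CohB1.tensorMod L K, β ≠ 0 := by
  haveI := isNoetherian_of_proper k X
  obtain ⟨I, p, i, hp, hi, hfac, hI, hKer, hr, -, -, hpos⟩ := exists_image k hX hE (rank_tensor_inv hE hK) α
  haveI := hp
  haveI := hi
  have h0 : 0 < grk I := hpos hα0
  have hk0 : grk (kernel α) ≠ 0 := fun h => by
    rw [h] at hKer
    haveI : Mono α := Preadditive.mono_of_isZero_kernel α (isZero_of_rank_zero hKer)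
    haveI := mono_tmap hK α
    exact W7Slope.pos_rank_not_isZero k two_pos hE (IsZero.of_mono_eq_zero _ hα)
  rw [show grk (kernel α) = 1 by omega] at hKer
  rw [show grk I = 1 by omega] at hI
  let j := kernel.ι α
  have hL := ZeroSch.isInvertible_of_rankOne hKer
  have hjp : j ≫ p = 0 := by rw [← cancel_mono i, Category.assoc, hfac, kernel.condition, zero_comp]
  have hS : (ShortComplex.mk j p hjp).ShortExact :=
    { exact := by
        refine ShortComplex.exact_of_f_is_kernel _ (KernelFork.IsLimit.ofι' _ _ fun {W} g hg => ?_)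
        refine ⟨kernel.lift α g ?_, kernel.lift_ι _ _ _⟩
        rw [← hfac, ← Category.assoc, show g ≫ p = 0 from hg, zero_comp] }
  let c : cokernel j ≅ I := (cokernelIsCokernel j).coconePointUniqueUpToIso hS.gIsCokernel
  refine ⟨kernel α, j, hL, inferInstance, ParaFLib.isInvertible_of_iso c.symm (ZeroSch.isInvertible_of_rankOne hI), ?_⟩
  have hlift : i ≫ tmap α K = 0 := by
    rw [← cancel_epi p, ← Category.assoc, hfac, hα, comp_zero]
  have hT := shortExact_tmap hK hS
  have hexact : (ShortComplex.mk (tmap j K) (tmap p K) (by rw [← tmap_comp, hjp, tmap_zero])).Exact := hT.exact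
  haveI : Mono (tmap i K) := mono_tmap hK i
  have hlift' : i ≫ tmap p K = 0 := by
    rw [← cancel_mono (tmap i K), Category.assoc, ← tmap_comp, hfac, hlift, zero_comp]
  haveI : Mono (tmap j K) := mono_tmap hK j
  refine ⟨c.hom ≫ hexact.lift i hlift', fun h => hα0 ?_⟩
  have h1 : hexact.lift i hlift' = 0 := by rw [← cancel_epi c.hom, h, comp_zero]
  rw [← hfac, show i = 0 by rw [← hexact.lift_f i hlift', h1, zero_comp], comp_zero]

theorem exists_nilp_of_line {E K L : X.Modules} (hK : PicF.IsInvertible K) (j : L ⟶ E) [Mono j]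
    (β : cokernel j ⟶ CohB1.tensorMod L K) (hβ : β ≠ 0) :
    ∃ α : E ⟶ CohB1.tensorMod E K, α ≫ tmap α K = 0 ∧ α ≠ 0 := by
  refine ⟨(cokernel.π j ≫ β) ≫ tmap j K, nilp_comp j _ (by rw [← Category.assoc, cokernel.condition, zero_comp]), fun h => hβ ?_⟩
  haveI := mono_tmap hK j
  have h1 : cokernel.π j ≫ β = 0 := by rw [← cancel_mono (tmap j K), h, zero_comp]
  rw [← cancel_epi (cokernel.π j), h1, comp_zero]

end Groth.Agent.VeryStable
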